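import Groth.Prelude.Def_W4c6equivkfinstabCyc
import Mathlib.RingTheory.Polynomial.Cyclotomic.Basic
import Mathlib.RingTheory.Polynomial.Cyclotomic.Roots
import Mathlib.RingTheory.Polynomial.Cyclotomic.Expand
import Mathlib.FieldTheory.Separable
import Mathlib.RingTheory.IntegralDomain
import Mathlib.RingTheory.Nilpotent.Lemmas
import Mathlib.RingTheory.Ideal.Quotient.Operations
import Mathlib.GroupTheory.SpecificGroups.Cyclic
import Mathlib.GroupTheory.Index

/-! The cyclotomic decomposition of the group algebra of a finite commutative group. -/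

universe u v

open Polynomial W4c6equivkfinstab

namespace Groth.L15.CycDec

variable {Λ : Type u} [CommRing Λ] {M : Type v} [AddCommGroup M]

/-- The group element `[m]` of `Λ[M]`. -/
noncomputable abbrev el (Λ : Type u) [CommRing Λ] {M : Type v} [AddCommGroup M] (m : M) :
    AddMonoidAlgebra Λ M :=
  AddMonoidAlgebra.single m 1

lemma el_add (a b : M) : el Λ (a + b) = el Λ a * el Λ b := by
  rw [AddMonoidAlgebra.single_mul_single, mul_one]

lemma el_nsmul (n : ℕ) (a : M) : el Λ (n • a) = el Λ a ^ n := by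
  rw [AddMonoidAlgebra.single_pow, one_pow]

lemma el_zero : el Λ (0 : M) = 1 := rfl

lemma quotMap_el (B : AddSubgroup M) (m : M) : quotMap Λ M B (el Λ m) = el Λ (QuotientAddGroup.mk' B m) := by
  simp [quotMap]

/-- The generators of the kernel of `Λ[M] → Λ[M/B]`. -/
def gens₀ (Λ : Type u) [CommRing Λ] (M : Type v) [AddCommGroup M] (B : AddSubgroup M) :
    Set (AddMonoidAlgebra Λ M) :=
  (fun b => el Λ b - 1) '' (B : Set M)

theorem ker_quotMap (B : AddSubgroup M) : RingHom.ker (quotMap Λ M B) = Ideal.span (gens₀ Λ M B) := by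
  refine le_antisymm (fun x hx => ?_) (Ideal.span_le.2 ?_)
  · let σ : M ⧸ B → M := Quotient.out
    let T : AddMonoidAlgebra Λ (M ⧸ B) →+ AddMonoidAlgebra Λ M :=
      AddMonoidHom.mk' (fun y => AddMonoidAlgebra.mapDomain σ y) fun a b =>
        AddMonoidAlgebra.mapDomain_add _ _ _
    have key : ∀ y, y - T (quotMap Λ M B y) ∈ Ideal.span (gens₀ Λ M B) := by
      intro y
      induction y using AddMonoidAlgebra.induction_linear with
      | zero => simp
      | add a b ha hb =>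
        rw [map_add, map_add, add_sub_add_comm]
        exact add_mem ha hb
      | single a r =>
        have h1 : T (quotMap Λ M B (AddMonoidAlgebra.single a r)) =
            AddMonoidAlgebra.single (σ (QuotientAddGroup.mk' B a)) r := by simp [T, quotMap]
        have hb : a - σ (QuotientAddGroup.mk' B a) ∈ B := by
          rw [← QuotientAddGroup.eq_zero_iff, QuotientAddGroup.mk_sub, sub_eq_zero]
          exact (QuotientAddGroup.out_eq' _).symm
        rw [h1, show AddMonoidAlgebra.single a r - AddMonoidAlgebra.single (σ (QuotientAddGroup.mk' B a)) r =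
          AddMonoidAlgebra.single (σ (QuotientAddGroup.mk' B a)) r *
            (el Λ (a - σ (QuotientAddGroup.mk' B a)) - 1) by
          rw [mul_sub, mul_one, AddMonoidAlgebra.single_mul_single, mul_one, add_sub_cancel]]
        exact Ideal.mul_mem_left _ _ (Ideal.subset_span ⟨_, hb, rfl⟩)
    have h := key x
    rwa [RingHom.mem_ker.1 hx, map_zero, sub_zero] at h
  · rintro _ ⟨b, hb, rfl⟩
    rw [SetLike.mem_coe, RingHom.mem_ker, map_sub, map_one, quotMap_el,
      show QuotientAddGroup.mk' B b = 0 from (QuotientAddGroup.eq_zero_iff b).2 hb, el_zero, sub_self]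

theorem quotMap_surjective (B : AddSubgroup M) : Function.Surjective (quotMap Λ M B) :=
  fun y => by
    induction y using AddMonoidAlgebra.induction_linear with
    | zero => exact ⟨0, map_zero _⟩
    | add a b ha hb =>
      obtain ⟨x, rfl⟩ := ha
      obtain ⟨z, rfl⟩ := hb
      exact ⟨x + z, map_add _ _ _⟩
    | single c r =>
      obtain ⟨m, rfl⟩ := QuotientAddGroup.mk'_surjective B c
      exact ⟨AddMonoidAlgebra.single m r, by simp [quotMap]⟩

theorem cycQuotMap_surjective (B : AddSubgroup M) : Function.Surjective (cycQuotMap Λ M B) :=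
  Ideal.Quotient.mk_surjective.comp (quotMap_surjective B)

/-- `Φ_n` at an element of `Λ[M]`. -/
noncomputable abbrev phi (B : AddSubgroup M) (g : M) : AddMonoidAlgebra Λ M :=
  aeval (el Λ g) (cyclotomic B.index Λ)

/-- The generators of the kernel of `Λ[M] → CycQuot (M/B)`. -/
def gens (Λ : Type u) [CommRing Λ] (M : Type v) [AddCommGroup M] (B : AddSubgroup M) :
    Set (AddMonoidAlgebra Λ M) :=
  gens₀ Λ M B ∪ (phi B) '' {g : M | AddSubgroup.zmultiples (QuotientAddGroup.mk' B g) = ⊤}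

theorem ker_cycQuotMap (B : AddSubgroup M) : RingHom.ker (cycQuotMap Λ M B) = Ideal.span (gens Λ M B) := by
  have hφ : ∀ g : M, quotMap Λ M B (phi B g) =
      aeval (el Λ (QuotientAddGroup.mk' B g)) (cyclotomic B.index Λ) := by
    intro g
    let q : AddMonoidAlgebra Λ M →ₐ[Λ] AddMonoidAlgebra Λ (M ⧸ B) :=
      AddMonoidAlgebra.mapDomainAlgHom Λ Λ (QuotientAddGroup.mk' B)
    have hq : ∀ z, quotMap Λ M B z = q z := fun _ => rfl
    rw [hq, ← aeval_algHom_apply, ← hq, quotMap_el]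
  have h1 : cycIdeal Λ (M ⧸ B) = Ideal.map (quotMap Λ M B)
      (Ideal.span ((phi B) '' {g : M | AddSubgroup.zmultiples (QuotientAddGroup.mk' B g) = ⊤})) := by
    rw [Ideal.map_span, ← Set.image_comp]
    refine congrArg Ideal.span (Set.ext fun x => ⟨?_, ?_⟩)
    · rintro ⟨c, hc, rfl⟩
      obtain ⟨g, rfl⟩ := QuotientAddGroup.mk'_surjective B c
      exact ⟨g, hc, hφ g⟩
    · rintro ⟨g, hg, rfl⟩
      exact ⟨_, hg, hφ g⟩
  rw [cycQuotMap, ← RingHom.comap_ker, Ideal.mk_ker, h1,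
    Ideal.comap_map_of_surjective _ (quotMap_surjective B), ← RingHom.ker_eq_comap_bot, ker_quotMap,
    gens, Ideal.span_union, sup_comm]

/-- If `ζ^n = 1`, `Φ_n(ζ) = 0`, `n` is a unit and `n ∤ j`, then `ζ^j - 1` is a unit. -/
theorem isUnit_pow_sub_one {R : Type*} [CommRing R] {n : ℕ} (hn : IsUnit (n : R)) {ζ : R}
    (h1 : ζ ^ n = 1) (h2 : (cyclotomic n R).eval ζ = 0) {j : ℕ} (hj : ¬ n ∣ j) :
    IsUnit (ζ ^ j - 1) := by
  rw [← Ideal.span_singleton_eq_top]
  by_contra htop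
  haveI : Nontrivial (R ⧸ Ideal.span {ζ ^ j - 1}) := Ideal.Quotient.nontrivial_iff.2 htop
  let q : R →+* R ⧸ Ideal.span {ζ ^ j - 1} := Ideal.Quotient.mk _
  have hj1 : q ζ ^ j = 1 := by
    rw [← sub_eq_zero, ← map_pow, ← map_one q, ← map_sub]
    exact Ideal.Quotient.eq_zero_iff_mem.2 (Ideal.mem_span_singleton_self _)
  have hn1 : q ζ ^ n = 1 := by rw [← map_pow, h1, map_one]
  have hn0 : n ≠ 0 := by
    rintro rfl
    rw [Nat.cast_zero] at hn
    exact not_isUnit_zero (M₀ := R ⧸ Ideal.span {ζ ^ j - 1}) (by simpa using hn.map q)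
  set d := orderOf (q ζ) with hd
  have hdn : d ∣ n := orderOf_dvd_of_pow_eq_one hn1
  have hdlt : d ≠ n := fun h => hj (h ▸ orderOf_dvd_of_pow_eq_one hj1)
  have hd0 : 0 < d := orderOf_pos_iff.2 (isOfFinOrder_iff_pow_eq_one.2 ⟨n, Nat.pos_of_ne_zero hn0, hn1⟩)
  obtain ⟨e, he⟩ := hdn
  have hsum : cyclotomic n (R ⧸ Ideal.span {ζ ^ j - 1}) ∣
      ∑ i ∈ Finset.range e, (X ^ d : (R ⧸ Ideal.span {ζ ^ j - 1})[X]) ^ i := by
    obtain ⟨c, hc⟩ := X_pow_sub_one_mul_cyclotomic_dvd_X_pow_sub_one_of_dvd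
      (R ⧸ Ideal.span {ζ ^ j - 1}) (Nat.mem_properDivisors.2
        ⟨⟨e, he⟩, lt_of_le_of_ne (Nat.le_of_dvd (Nat.pos_of_ne_zero hn0) ⟨e, he⟩) hdlt⟩)
    refine ⟨c, ?_⟩
    have hm : (X ^ d - 1 : (R ⧸ Ideal.span {ζ ^ j - 1})[X]).Monic := monic_X_pow_sub_C 1 hd0.ne'
    refine hm.isRegular.left ?_
    change (X ^ d - 1) * _ = (X ^ d - 1) * _
    rw [mul_comm, geom_sum_mul, ← pow_mul, ← he, hc, mul_assoc]
  obtain ⟨c, hc⟩ := hsum
  have hev := congrArg (eval (q ζ)) hc
  simp only [eval_finset_sum, eval_pow, eval_X, eval_mul] at hev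
  rw [← hd] at *
  rw [show q ζ ^ d = 1 from hd ▸ pow_orderOf_eq_one _, ← map_cyclotomic n q, eval_map,
    eval₂_at_apply, h2, map_zero, zero_mul] at hev
  simp only [one_pow, Finset.sum_const, Finset.card_range, nsmul_eq_mul, mul_one] at hev
  have he' : IsUnit (e : R ⧸ Ideal.span {ζ ^ j - 1}) := by
    have h := hn.map q
    rw [map_natCast, he, Nat.cast_mul] at h
    exact isUnit_of_mul_isUnit_right h
  rw [hev] at he'
  exact not_isUnit_zero he'

theorem mem_gens₀ {B : AddSubgroup M} {b : M} (hb : b ∈ B) :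
    el Λ b - 1 ∈ RingHom.ker (cycQuotMap Λ M B) := by
  rw [ker_cycQuotMap]
  exact Ideal.subset_span (Or.inl ⟨b, hb, rfl⟩)

theorem cyc_el_eq_one {B : AddSubgroup M} {b : M} (hb : b ∈ B) : cycQuotMap Λ M B (el Λ b) = 1 := by
  have h : cycQuotMap Λ M B (el Λ b - 1) = 0 := mem_gens₀ hb
  rwa [map_sub, map_one, sub_eq_zero] at h

/-- Outside `B`, `[b] - 1` is invertible on the cyclotomic quotient at `B`. -/
theorem exists_mul_sub_one_mem {B : AddSubgroup M} [B.FiniteIndex] [IsAddCyclic (M ⧸ B)]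
    (hu : IsUnit ((B.index : ℕ) : Λ)) {b : M} (hb : b ∉ B) :
    ∃ t, cycQuotMap Λ M B (t * (el Λ b - 1)) = 1 := by
  obtain ⟨c, hc⟩ := IsAddCyclic.exists_generator (α := M ⧸ B)
  obtain ⟨g, rfl⟩ := QuotientAddGroup.mk'_surjective B c
  obtain ⟨j, hj⟩ := mem_multiples_iff_mem_zmultiples.2 (hc (QuotientAddGroup.mk' B b))
  have hj' : j • QuotientAddGroup.mk' B g = QuotientAddGroup.mk' B b := hj
  set ζ := cycQuotMap Λ M B (el Λ g)
  have hζn : ζ ^ B.index = 1 := by
    rw [← map_pow, ← el_nsmul]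
    exact cyc_el_eq_one (B.nsmul_index_mem g)
  have hζ0 : (cyclotomic B.index (CycQuot Λ (M ⧸ B))).eval ζ = 0 := by
    have h : cycQuotMap Λ M B (phi B g) = 0 := by
      rw [← RingHom.mem_ker, ker_cycQuotMap]
      exact Ideal.subset_span (Or.inr ⟨g, (AddSubgroup.eq_top_iff' _).2 hc, rfl⟩)
    rw [phi, aeval_def, hom_eval₂] at h
    rwa [← map_cyclotomic B.index ((cycQuotMap Λ M B).comp (algebraMap Λ (AddMonoidAlgebra Λ M))),
      eval_map]
  have hdiv : ¬ B.index ∣ j := by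
    rintro ⟨e, rfl⟩
    apply hb
    rw [← QuotientAddGroup.eq_zero_iff]
    change QuotientAddGroup.mk' B b = 0
    rw [← hj', mul_comm, mul_nsmul', ← map_nsmul (QuotientAddGroup.mk' B) B.index g,
      show QuotientAddGroup.mk' B (B.index • g) = 0 from
        (QuotientAddGroup.eq_zero_iff _).2 (B.nsmul_index_mem g), nsmul_zero]
  have hunit : IsUnit ((B.index : ℕ) : CycQuot Λ (M ⧸ B)) := by
    have := hu.map ((cycQuotMap Λ M B).comp (algebraMap Λ (AddMonoidAlgebra Λ M)))
    rwa [map_natCast] at this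
  obtain ⟨t, ht⟩ := cycQuotMap_surjective (Λ := Λ) B
    ((isUnit_pow_sub_one hunit hζn hζ0 hdiv).unit⁻¹ : _)
  refine ⟨t, ?_⟩
  have hbj : cycQuotMap Λ M B (el Λ b) = ζ ^ j := by
    have hmem : b - j • g ∈ B := by
      rw [← QuotientAddGroup.eq_zero_iff]
      change QuotientAddGroup.mk' B (b - j • g) = 0
      rw [map_sub, map_nsmul, hj', sub_self]
    rw [← map_pow, ← el_nsmul, ← sub_add_cancel b (j • g), el_add, map_mul, cyc_el_eq_one hmem,
      one_mul]
  rw [map_mul, map_sub, map_one, ht, hbj]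
  exact IsUnit.val_inv_mul _

/-- Distinct cyclic quotients give comaximal kernels. -/
theorem isCoprime_ker {B B' : AddSubgroup M} [B.FiniteIndex] [B'.FiniteIndex]
    [IsAddCyclic (M ⧸ B)] [IsAddCyclic (M ⧸ B')] (hu : IsUnit ((B.index : ℕ) : Λ))
    (hu' : IsUnit ((B'.index : ℕ) : Λ)) (hne : B ≠ B') :
    IsCoprime (RingHom.ker (cycQuotMap Λ M B)) (RingHom.ker (cycQuotMap Λ M B')) := by
  wlog hle : ¬ B ≤ B' generalizing B B'
  · exact (this hu' hu hne.symm fun h => hne (le_antisymm (not_not.1 hle) h)).symm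
  obtain ⟨b, hb, hb'⟩ := SetLike.not_le_iff_exists.1 hle
  obtain ⟨t, ht⟩ := exists_mul_sub_one_mem (Λ := Λ) hu' hb'
  rw [Ideal.isCoprime_iff_exists]
  exact ⟨t * (el Λ b - 1), Ideal.mul_mem_left _ _ (mem_gens₀ hb), 1 - t * (el Λ b - 1),
    by rw [RingHom.mem_ker, map_sub, ht, map_one, sub_self], by rw [add_sub_cancel]⟩

end Groth.L15.CycDec
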