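import Groth.Agent.L15.CycDec.Basic
import Mathlib.RingTheory.Noetherian.Nilpotent
import Mathlib.Algebra.Module.LocalizedModule.Basic

/-! The decomposition of `Λ[M/B₀]` and its localizations at the cyclic quotients. -/

universe u v

open Polynomial W4c6equivkfinstab

namespace Groth.L15.CycDec

variable {Λ : Type u} [CommRing Λ] {M : Type v} [AddCommGroup M]

theorem index_cast_isUnit {B₀ B : AddSubgroup M} (hB : B₀ ≤ B) (hu : IsUnit ((B₀.index : ℕ) : Λ)) :
    IsUnit ((B.index : ℕ) : Λ) := by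
  obtain ⟨c, hc⟩ := AddSubgroup.index_dvd_of_le hB
  rw [hc, Nat.cast_mul] at hu
  exact isUnit_of_mul_isUnit_left hu

theorem finiteIndex_of_le {B₀ B : AddSubgroup M} [B₀.FiniteIndex] (hB : B₀ ≤ B) : B.FiniteIndex :=
  AddSubgroup.finiteIndex_of_le hB

theorem ker_quotMap_le {B₀ B : AddSubgroup M} (hB : B₀ ≤ B) :
    RingHom.ker (quotMap Λ M B₀) ≤ RingHom.ker (cycQuotMap Λ M B) := by
  rw [ker_quotMap, Ideal.span_le]
  rintro _ ⟨b, hb, rfl⟩
  exact mem_gens₀ (hB hb)

theorem sq_mem_of_coprime_mul {R : Type*} [CommRing R] (I : Ideal R) {a c p q : R} (h : p * a + q * c = 1)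
    (ha : a ∈ I) (hac : a * c ∈ I ^ 2) : a ∈ I ^ 2 := by
  have : a = p * (a * a) + q * (a * c) := by linear_combination (-a) * h
  rw [this, sq]
  rw [sq] at hac
  exact add_mem (Ideal.mul_mem_left _ _ (Ideal.mul_mem_mul ha ha)) (Ideal.mul_mem_left _ _ hac)

variable {B₀ : AddSubgroup M} [B₀.FiniteIndex]

/-- The kernel at `B`, in `Λ[M/B₀]`. -/
noncomputable def L (B₀ B : AddSubgroup M) : Ideal (AddMonoidAlgebra Λ (M ⧸ B₀)) :=
  (RingHom.ker (cycQuotMap Λ M B)).map (quotMap Λ M B₀)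

theorem L_eq (B : AddSubgroup M) : L (Λ := Λ) B₀ B = Ideal.span (quotMap Λ M B₀ '' gens Λ M B) := by
  rw [L, ker_cycQuotMap, Ideal.map_span]

theorem L_fg (B : AddSubgroup M) : (L (Λ := Λ) B₀ B).FG := by
  rw [L_eq]
  refine Submodule.fg_span ?_
  haveI : Finite (M ⧸ B₀) := AddSubgroup.finite_quotient_of_finiteIndex
  refine Set.Finite.subset ((Set.finite_range fun c : M ⧸ B₀ => el Λ c - 1).union
    (Set.finite_range fun c : M ⧸ B₀ => aeval (el Λ c) (cyclotomic B.index Λ))) ?_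
  rintro _ ⟨x, hx, rfl⟩
  rcases hx with ⟨b, -, rfl⟩ | ⟨g, -, rfl⟩
  · exact Or.inl ⟨QuotientAddGroup.mk' B₀ b, by rw [map_sub, map_one, quotMap_el]⟩
  · refine Or.inr ⟨QuotientAddGroup.mk' B₀ g, ?_⟩
    let q : AddMonoidAlgebra Λ M →ₐ[Λ] AddMonoidAlgebra Λ (M ⧸ B₀) :=
      AddMonoidAlgebra.mapDomainAlgHom Λ Λ (QuotientAddGroup.mk' B₀)
    have hq : ∀ z, quotMap Λ M B₀ z = q z := fun _ => rfl
    rw [hq, phi, ← aeval_algHom_apply, ← hq, quotMap_el]

theorem el_pow_index (m : M) : quotMap Λ M B₀ (el Λ m) ^ B₀.index = 1 := by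
  rw [← map_pow, ← el_nsmul, quotMap_el,
    show QuotientAddGroup.mk' B₀ (B₀.index • m) = 0 from
      (QuotientAddGroup.eq_zero_iff _).2 (B₀.nsmul_index_mem m), el_zero]

theorem L_sq {B : AddSubgroup M} (hB : B₀ ≤ B) (hu : IsUnit ((B₀.index : ℕ) : Λ)) :
    L (Λ := Λ) B₀ B ^ 2 = L B₀ B := by
  haveI := finiteIndex_of_le hB
  refine le_antisymm (Ideal.pow_le_self two_ne_zero) ?_
  have hb : ∀ b ∈ B, quotMap Λ M B₀ (el Λ b - 1) ∈ L (Λ := Λ) B₀ B ^ 2 := by
    intro b hb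
    have ha : quotMap Λ M B₀ (el Λ b - 1) ∈ L (Λ := Λ) B₀ B := Ideal.mem_map_of_mem _ (mem_gens₀ hb)
    have hsep : ((X : Λ[X]) ^ B₀.index - C 1).Separable :=
      separable_X_pow_sub_C_unit (1 : Λˣ) hu
    have hgs : ((X : Λ[X]) - C 1) * ∑ i ∈ Finset.range B₀.index, X ^ i = X ^ B₀.index - C 1 := by
      rw [map_one, mul_comm, geom_sum_mul]
    rw [← hgs] at hsep
    obtain ⟨p, q, hpq⟩ := hsep.isCoprime
    set z := quotMap Λ M B₀ (el Λ b)
    have e1 := congrArg (aeval z) hpq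
    simp only [map_add, map_mul, map_sub, map_one, aeval_X] at e1
    have e2 : (z - 1) * aeval z (∑ i ∈ Finset.range B₀.index, (X : Λ[X]) ^ i) = 0 := by
      have := congrArg (aeval z) hgs
      simpa [z, el_pow_index] using this
    rw [map_sub, map_one] at ha ⊢
    exact sq_mem_of_coprime_mul _ e1 ha (e2 ▸ zero_mem _)
  conv_lhs => rw [L_eq]
  rw [Ideal.span_le]
  rintro _ ⟨x, hx, rfl⟩
  rcases hx with ⟨b, hb', rfl⟩ | ⟨g, hg, rfl⟩
  · exact hb b hb'
  · have ha : quotMap Λ M B₀ (phi B g) ∈ L (Λ := Λ) B₀ B := by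
      refine Ideal.mem_map_of_mem _ ?_
      rw [ker_cycQuotMap]
      exact Ideal.subset_span (Or.inr ⟨g, hg, rfl⟩)
    obtain ⟨G, hG⟩ := cyclotomic.dvd_X_pow_sub_one B.index Λ
    have hsep : ((X : Λ[X]) ^ B.index - C 1).Separable :=
      separable_X_pow_sub_C_unit (1 : Λˣ) (index_cast_isUnit hB hu)
    rw [map_one, hG] at hsep
    obtain ⟨p, q, hpq⟩ := hsep.isCoprime
    let f : Λ[X] →+* AddMonoidAlgebra Λ (M ⧸ B₀) := (quotMap Λ M B₀).comp (aeval (el Λ g)).toRingHom
    have hf : f (cyclotomic B.index Λ) = quotMap Λ M B₀ (phi B g) := rfl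
    have e1 := congrArg f hpq
    simp only [map_add, map_mul, map_one, hf] at e1
    have e2 : quotMap Λ M B₀ (phi B g) * f G =
        quotMap Λ M B₀ (el Λ (B.index • g) - 1) := by
      rw [← hf, ← map_mul, ← hG]
      simp only [f, RingHom.comp_apply, map_sub, map_pow, map_one, AlgHom.toRingHom_eq_coe, RingHom.coe_coe, aeval_X, el_nsmul]
    exact sq_mem_of_coprime_mul _ e1 ha (e2 ▸ hb _ (B.nsmul_index_mem g))

/-- Every prime contains the kernel of some cyclic quotient. -/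
theorem exists_L_le (hu : IsUnit ((B₀.index : ℕ) : Λ)) (P : Ideal (AddMonoidAlgebra Λ (M ⧸ B₀)))
    [P.IsPrime] :
    ∃ B : AddSubgroup M, B₀ ≤ B ∧ IsAddCyclic (M ⧸ B) ∧ L (Λ := Λ) B₀ B ≤ P := by
  let φ : AddMonoidAlgebra Λ M →+* AddMonoidAlgebra Λ (M ⧸ B₀) ⧸ P :=
    (Ideal.Quotient.mk P).comp (quotMap Λ M B₀)
  haveI : Finite (M ⧸ B₀) := AddSubgroup.finite_quotient_of_finiteIndex
  let h : Multiplicative M →* AddMonoidAlgebra Λ (M ⧸ B₀) ⧸ P :=
    { toFun := fun m => φ (el Λ m.toAdd)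
      map_one' := map_one φ
      map_mul' := fun a b => by rw [toAdd_mul, el_add, map_mul] }
  let B : AddSubgroup M :=
    { carrier := {m | h (Multiplicative.ofAdd m) = 1}
      zero_mem' := map_one h
      add_mem' := fun {a b} ha hb => by
        change h (Multiplicative.ofAdd (a + b)) = 1
        change h (Multiplicative.ofAdd a) = 1 at ha
        change h (Multiplicative.ofAdd b) = 1 at hb
        rw [ofAdd_add, map_mul, ha, hb, one_mul]
      neg_mem' := fun {a} ha => by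
        have h1 : h (Multiplicative.ofAdd (-a)) * h (Multiplicative.ofAdd a) = 1 := by
          rw [← map_mul, ← ofAdd_add, neg_add_cancel]
          exact map_one h
        change h (Multiplicative.ofAdd a) = 1 at ha
        rw [ha, mul_one] at h1
        exact h1 }
  have hB : B₀ ≤ B := fun b hb => by
    change φ (el Λ b) = 1
    change Ideal.Quotient.mk P (quotMap Λ M B₀ (el Λ b)) = 1
    rw [quotMap_el, show QuotientAddGroup.mk' B₀ b = 0 from (QuotientAddGroup.eq_zero_iff b).2 hb,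
      el_zero, map_one]
  haveI := finiteIndex_of_le hB
  haveI : Finite (M ⧸ B) := AddSubgroup.finite_quotient_of_finiteIndex
  let hq : Multiplicative (M ⧸ B) →* AddMonoidAlgebra Λ (M ⧸ B₀) ⧸ P :=
    { toFun := fun c => Quotient.liftOn' c.toAdd (fun m => h (Multiplicative.ofAdd m)) fun a b hab => by
        have hab' : -a + b ∈ B := QuotientAddGroup.leftRel_apply.1 hab
        change h (Multiplicative.ofAdd a) = h (Multiplicative.ofAdd b)
        have : h (Multiplicative.ofAdd b) = h (Multiplicative.ofAdd a) * h (Multiplicative.ofAdd (-a + b)) := by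
          rw [← map_mul, ← ofAdd_add, add_neg_cancel_left]
        rw [this, show h (Multiplicative.ofAdd (-a + b)) = 1 from hab', mul_one]
      map_one' := map_one h
      map_mul' := fun a b => by
        induction a using Multiplicative.rec with | _ a => ?_
        induction b using Multiplicative.rec with | _ b => ?_
        induction a using QuotientAddGroup.induction_on with | _ a => ?_
        induction b using QuotientAddGroup.induction_on with | _ b => ?_
        exact map_mul h (Multiplicative.ofAdd a) (Multiplicative.ofAdd b) }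
  have hinj : Function.Injective hq := by
    intro a b hab
    induction a using Multiplicative.rec with | _ a => ?_
    induction b using Multiplicative.rec with | _ b => ?_
    induction a using QuotientAddGroup.induction_on with | _ a => ?_
    induction b using QuotientAddGroup.induction_on with | _ b => ?_
    have hab' : h (Multiplicative.ofAdd a) = h (Multiplicative.ofAdd b) := hab
    refine congrArg Multiplicative.ofAdd (QuotientAddGroup.eq.2 ?_)
    change h (Multiplicative.ofAdd (-a + b)) = 1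
    rw [ofAdd_add, map_mul, ← hab', ← map_mul, ← ofAdd_add, neg_add_cancel]
    exact map_one h
  haveI : IsDomain (AddMonoidAlgebra Λ (M ⧸ B₀) ⧸ P) := Ideal.Quotient.isDomain P
  haveI hcyc : IsAddCyclic (M ⧸ B) := isCyclic_multiplicative_iff.1 (isCyclic_of_subgroup_isDomain hq hinj)
  refine ⟨B, hB, hcyc, ?_⟩
  rw [L_eq, Ideal.span_le]
  rintro _ ⟨x, hx, rfl⟩
  rw [SetLike.mem_coe, ← Ideal.Quotient.eq_zero_iff_mem]
  change φ x = 0
  rcases hx with ⟨b, hb, rfl⟩ | ⟨g, hg, rfl⟩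
  · rw [map_sub, map_one, sub_eq_zero]
    exact hb
  · have hord : orderOf (φ (el Λ g)) = B.index := by
      have h1 : φ (el Λ g) = hq (Multiplicative.ofAdd (QuotientAddGroup.mk' B g)) := rfl
      rw [h1, orderOf_injective hq hinj, orderOf_ofAdd_eq_addOrderOf, ← Nat.card_zmultiples, hg,
        Nat.card_congr AddSubgroup.topEquiv.toEquiv]
      rfl
    have hprim := IsPrimitiveRoot.orderOf (φ (el Λ g))
    rw [hord] at hprim
    have hroot := hprim.isRoot_cyclotomic (Nat.pos_of_ne_zero AddSubgroup.FiniteIndex.index_ne_zero)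
    rw [phi, aeval_def, hom_eval₂, ← eval_map, map_cyclotomic]
    exact hroot

/-- The index set of the decomposition. -/
abbrev Idx (B₀ : AddSubgroup M) := {B : AddSubgroup M // B₀ ≤ B ∧ IsAddCyclic (M ⧸ B)}

instance finite_idx : Finite (Idx B₀) := by
  haveI : Finite (M ⧸ B₀) := AddSubgroup.finite_quotient_of_finiteIndex
  refine Finite.of_injective (fun B : Idx B₀ => B.1.map (QuotientAddGroup.mk' B₀)) fun B B' h => Subtype.ext ?_
  have h' := congrArg (AddSubgroup.comap (QuotientAddGroup.mk' B₀)) h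
  simp only [AddSubgroup.comap_map_eq, QuotientAddGroup.ker_mk'] at h'
  rwa [sup_eq_left.2 B.2.1, sup_eq_left.2 B'.2.1] at h'

theorem L_coprime (hu : IsUnit ((B₀.index : ℕ) : Λ)) :
    Pairwise fun i j : Idx B₀ => IsCoprime (L (Λ := Λ) B₀ i.1) (L B₀ j.1) := by
  intro i j hij
  haveI := finiteIndex_of_le i.2.1
  haveI := finiteIndex_of_le j.2.1
  haveI := i.2.2
  haveI := j.2.2
  rw [Ideal.isCoprime_iff_sup_eq, L, L, ← Ideal.map_sup,
    Ideal.isCoprime_iff_sup_eq.1 (isCoprime_ker (index_cast_isUnit i.2.1 hu) (index_cast_isUnit j.2.1 hu)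
      fun h => hij (Subtype.ext h)), Ideal.map_top]

theorem iInf_L_eq_bot (hu : IsUnit ((B₀.index : ℕ) : Λ)) :
    (⨅ i : Idx B₀, L (Λ := Λ) B₀ i.1) = ⊥ := by
  classical
  haveI := Fintype.ofFinite (Idx B₀)
  have hprod : ∏ i : Idx B₀, L (Λ := Λ) B₀ i.1 = ⨅ i : Idx B₀, L (Λ := Λ) B₀ i.1 := by
    rw [Ideal.prod_eq_iInf_of_pairwise_isCoprime fun i _ j _ hij => L_coprime hu hij]
    simp
  rw [← hprod]
  set J := ∏ i : Idx B₀, L (Λ := Λ) B₀ i.1
  have hJ : J ^ 2 = J := by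
    rw [← Finset.prod_pow]
    exact Finset.prod_congr rfl fun i _ => L_sq i.2.1 hu
  have hfg : J.FG := Finset.prod_induction _ (fun I : Ideal (AddMonoidAlgebra Λ (M ⧸ B₀)) => I.FG)
    (fun I K hI hK => Submodule.FG.mul hI hK) (Ideal.one_eq_top (R := AddMonoidAlgebra Λ (M ⧸ B₀)) ▸
      ⟨{1}, by simp⟩) fun i _ => L_fg i.1
  have hnil : J ≤ nilradical (AddMonoidAlgebra Λ (M ⧸ B₀)) := by
    rw [nilradical_eq_sInf]
    refine le_sInf fun P (hP : P.IsPrime) => ?_
    obtain ⟨B, hB, hc, hle⟩ := exists_L_le hu P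
    rw [show J = ⨅ i : Idx B₀, L (Λ := Λ) B₀ i.1 from hprod]
    exact (iInf_le _ (⟨B, hB, hc⟩ : Idx B₀)).trans hle
  obtain ⟨e, he⟩ := (Ideal.FG.isNilpotent_iff_le_nilradical hfg).2 hnil
  have hpow : ∀ n : ℕ, J ^ (n + 1) = J := by
    intro n
    induction n with
    | zero => rw [pow_one]
    | succ n ih => rw [pow_succ, ih, ← sq, hJ]
  rw [← hpow e, pow_succ, he, Submodule.zero_eq_bot, Ideal.bot_mul]

/-- Membership of `quotMap x` in `L`. -/
theorem quotMap_mem_L_iff {B : AddSubgroup M} (hB : B₀ ≤ B) (x : AddMonoidAlgebra Λ M) :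
    quotMap Λ M B₀ x ∈ L (Λ := Λ) B₀ B ↔ cycQuotMap Λ M B x = 0 := by
  rw [L, ← Ideal.mem_comap, Ideal.comap_map_of_surjective _ (quotMap_surjective B₀),
    ← RingHom.ker_eq_comap_bot, sup_eq_left.2 (ker_quotMap_le hB), RingHom.mem_ker]

theorem exists_idem (hu : IsUnit ((B₀.index : ℕ) : Λ)) (i : Idx B₀) :
    ∃ s ∈ locSubmonoid Λ M i.1, ∀ j : Idx B₀, j ≠ i → quotMap Λ M B₀ s ∈ L (Λ := Λ) B₀ j.1 := by
  classical
  obtain ⟨z, hz⟩ := Ideal.exists_forall_sub_mem_ideal (L_coprime (Λ := Λ) hu)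
    (fun j : Idx B₀ => if j = i then (1 : AddMonoidAlgebra Λ (M ⧸ B₀)) else 0)
  obtain ⟨s, rfl⟩ := quotMap_surjective B₀ z
  refine ⟨s, ?_, fun j hj => by simpa [hj] using hz j⟩
  have h := hz i
  rw [if_pos rfl, ← map_one (quotMap Λ M B₀), ← map_sub, quotMap_mem_L_iff i.2.1, map_sub, map_one,
    sub_eq_zero] at h
  exact h

theorem smul_eq_zero_of_cyc (hu : IsUnit ((B₀.index : ℕ) : Λ)) (i : Idx B₀) {s x : AddMonoidAlgebra Λ M}
    (hs : ∀ j : Idx B₀, j ≠ i → quotMap Λ M B₀ s ∈ L (Λ := Λ) B₀ j.1)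
    (hx : cycQuotMap Λ M i.1 x = 0) : quotMap Λ M B₀ (s * x) = 0 := by
  have : quotMap Λ M B₀ (s * x) ∈ (⨅ j : Idx B₀, L (Λ := Λ) B₀ j.1) := by
    rw [Ideal.mem_iInf]
    intro j
    rw [map_mul]
    by_cases hj : j = i
    · subst hj
      exact Ideal.mul_mem_left _ _ ((quotMap_mem_L_iff j.2.1 x).2 hx)
    · exact Ideal.mul_mem_right _ _ (hs j hj)
  rwa [iInf_L_eq_bot hu, Ideal.mem_bot] at this

theorem mk_eq_mk_one (hu : IsUnit ((B₀.index : ℕ) : Λ)) (i : Idx B₀) (x : AddMonoidAlgebra Λ (M ⧸ B₀))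
    (t : locSubmonoid Λ M i.1) :
    LocalizedModule.mk x t = LocalizedModule.mkLinearMap (locSubmonoid Λ M i.1) _ x := by
  obtain ⟨y, rfl⟩ := quotMap_surjective B₀ x
  obtain ⟨s, hs, hs'⟩ := exists_idem hu i
  rw [LocalizedModule.mkLinearMap_apply, LocalizedModule.mk_eq]
  refine ⟨⟨s, hs⟩, ?_⟩
  rw [one_smul, Submonoid.smul_def, Submonoid.smul_def, Submonoid.smul_def]
  change quotMap Λ M B₀ s * quotMap Λ M B₀ y =
    quotMap Λ M B₀ s * (quotMap Λ M B₀ t * quotMap Λ M B₀ y)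
  have h := smul_eq_zero_of_cyc hu i hs' (x := (1 : AddMonoidAlgebra Λ M) - t)
    (by rw [map_sub, map_one, (t.2 : cycQuotMap Λ M i.1 t = 1), sub_self])
  rw [map_mul, map_sub, map_one] at h
  linear_combination quotMap Λ M B₀ y * h

theorem mk_eq_zero_iff (hu : IsUnit ((B₀.index : ℕ) : Λ)) (i : Idx B₀) (x : AddMonoidAlgebra Λ (M ⧸ B₀)) :
    LocalizedModule.mkLinearMap (locSubmonoid Λ M i.1) _ x = 0 ↔ x ∈ L (Λ := Λ) B₀ i.1 := by
  obtain ⟨y, rfl⟩ := quotMap_surjective B₀ x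
  rw [LocalizedModule.mkLinearMap_apply, ← LocalizedModule.zero_mk 1, LocalizedModule.mk_eq]
  constructor
  · rintro ⟨⟨s, hs⟩, h⟩
    rw [one_smul, one_smul, smul_zero, Submonoid.smul_def] at h
    change quotMap Λ M B₀ s * quotMap Λ M B₀ y = 0 at h
    rw [← map_mul, ← RingHom.mem_ker] at h
    have h' : cycQuotMap Λ M i.1 (s * y) = 0 := ker_quotMap_le i.2.1 h
    rw [map_mul, (hs : cycQuotMap Λ M i.1 s = 1), one_mul] at h'
    exact (quotMap_mem_L_iff i.2.1 y).2 h'
  · intro h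
    obtain ⟨s, hs, hs'⟩ := exists_idem hu i
    refine ⟨⟨s, hs⟩, ?_⟩
    rw [one_smul, one_smul, smul_zero, Submonoid.smul_def]
    change quotMap Λ M B₀ s * quotMap Λ M B₀ y = 0
    rw [← map_mul]
    exact smul_eq_zero_of_cyc hu i hs' ((quotMap_mem_L_iff i.2.1 y).1 h)

/-- The decomposition by localizations. -/
theorem bijective_pi_mk (hu : IsUnit ((B₀.index : ℕ) : Λ)) :
    Function.Bijective (LinearMap.pi (R := AddMonoidAlgebra Λ M)
      fun B : Idx B₀ => LocalizedModule.mkLinearMap (locSubmonoid Λ M B.1)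
          (AddMonoidAlgebra Λ (M ⧸ B₀))) := by
  refine ⟨(injective_iff_map_eq_zero _).2 fun x hx => ?_, fun y => ?_⟩
  · have : x ∈ (⨅ i : Idx B₀, L (Λ := Λ) B₀ i.1) := by
      rw [Ideal.mem_iInf]
      exact fun i => (mk_eq_zero_iff hu i x).1 (congrFun hx i)
    rwa [iInf_L_eq_bot hu, Ideal.mem_bot] at this
  · have hex : ∀ i, ∃ x : AddMonoidAlgebra Λ (M ⧸ B₀),
        LocalizedModule.mkLinearMap (locSubmonoid Λ M i.1) _ x = y i := fun i => by
      induction y i using LocalizedModule.induction_on with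
      | h m s => exact ⟨m, (mk_eq_mk_one hu i m s).symm⟩
    choose z hz using hex
    obtain ⟨r, hr⟩ := Ideal.exists_forall_sub_mem_ideal (L_coprime (Λ := Λ) hu) z
    refine ⟨r, funext fun i => ?_⟩
    rw [LinearMap.pi_apply, ← hz i, ← sub_eq_zero, ← map_sub]
    exact (mk_eq_zero_iff hu i _).2 (hr i)

theorem subsingleton_of_exists {R : Type*} [CommRing R] {N : Type*} [AddCommGroup N] [Module R N]
    {S : Submonoid R} (h : ∃ s ∈ S, ∀ x : N, s • x = 0) : Subsingleton (LocalizedModule S N) := by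
  obtain ⟨s, hs, h0⟩ := h
  refine subsingleton_of_forall_eq 0 fun z => ?_
  induction z using LocalizedModule.induction_on with
  | h m t =>
    rw [← LocalizedModule.zero_mk 1, LocalizedModule.mk_eq]
    exact ⟨⟨s, hs⟩, by rw [one_smul, smul_zero, smul_zero, Submonoid.smul_def, h0]⟩

end Groth.L15.CycDec
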